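import Cfsg.Agent.Lib.Recog.FiM24Inv.Fixed
import Cfsg.Agent.Lib.LocalEvenB.FiM23.Classes

set_option autoImplicit false
set_option maxRecDepth 20000

/-!
Involutions of a group of type M(24): each is a product of one to four commuting members, products of one length
are conjugate and the length is determined (owner: helper12).
-/

namespace CfsgLib.Recog.FiM24Inv

open Cfsg CfsgLib.ThreeTrans CfsgLib.Recog.FiM22.Factor CfsgLib.Recog.FiM22Two CfsgLib.Recog.FiM24

universe u

/-- Two commuting lists of different lengths up to four with one product give a relation. -/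
theorem length_four {G : Type u} [Group G] {D : Set G} (hS : IsThreeTranspositionSet D)
    (hrel : ∀ k, 3 ≤ k → k ≤ 7 → NoRel D k) {l l' : List G} (h : ComList D l) (h' : ComList D l')
    (hlt : l.length < l'.length) (hl' : l'.length ≤ 4) (heq : l.prod = l'.prod) : False := by
  classical
  have hx : ∀ x ∈ l', ∀ y ∈ l, Commute x y := h.commute_all hS h' (by omega) heq.symm
  have hall : ∀ x ∈ l ++ l', ∀ y ∈ l ++ l', Commute x y := by
    intro x hx' y hy'
    rcases List.mem_append.1 hx' with p | p <;> rcases List.mem_append.1 hy' with q | q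
    exacts [h.comm x p y q, (hx y q x p).symm, hx x p y q, h'.comm x p y q]
  have hpw : ∀ u : List G, (∀ x ∈ u, x ∈ l ++ l') → u.Pairwise Commute := fun u hu =>
    List.pairwise_of_forall_mem_list fun x hx' y hy' => hall x (hu x hx') y (hu y hy')
  let c := l.filter fun x => decide (x ∈ l')
  let c' := l'.filter fun x => decide (x ∈ l)
  let d := l.filter fun x => decide (x ∉ l')
  let d' := l'.filter fun x => decide (x ∉ l)
  have hp : (c ++ d).Perm l := by simpa only [c, d, decide_not] using List.filter_append_perm _ l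
  have hp' : (c' ++ d').Perm l' := by simpa only [c', d', decide_not] using List.filter_append_perm _ l'
  have hcc : c.Perm c' := (List.perm_ext_iff_of_nodup (h.nodup.filter _) (h'.nodup.filter _)).2 fun x => by
    simp [c, c', and_comm]
  have e1 : c.prod * d.prod = l.prod := by rw [← List.prod_append, hp.prod_eq' (hpw _ fun x hx' =>
    List.mem_append_left _ (hp.subset hx'))]
  have e2 : c'.prod * d'.prod = l'.prod := by rw [← List.prod_append, hp'.prod_eq' (hpw _ fun x hx' =>
    List.mem_append_right _ (hp'.subset hx'))]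
  have e3 : c.prod = c'.prod := hcc.prod_eq' (hpw _ fun x hx' => List.mem_append_left _ (List.mem_filter.1 hx').1)
  have hd : d.prod = d'.prod := mul_left_cancel (a := c.prod) (by rw [e1, heq, ← e2, e3])
  have hsub : ∀ z ∈ d ++ d', z ∈ l ++ l' := fun z hz => by
    rcases List.mem_append.1 hz with p | p
    exacts [List.mem_append_left _ (List.mem_filter.1 p).1, List.mem_append_right _ (List.mem_filter.1 p).1]
  have hu : ComList D (d ++ d') := by
    refine ⟨List.nodup_append.2 ⟨h.nodup.filter _, h'.nodup.filter _, ?_⟩, ?_, ?_⟩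
    · intro x hx' y hy' e
      subst e
      simp [d, d'] at hx' hy'
      exact hx'.2 hy'.1
    · intro x hx'
      rcases List.mem_append.1 (hsub x hx') with p | p
      exacts [h.mem x p, h'.mem x p]
    · exact fun x hx' y hy' => hall x (hsub x hx') y (hsub y hy')
  have hprod : (d ++ d').prod = 1 := by
    rw [List.prod_append, hd, (h'.sub (h'.nodup.filter _) fun x hx' => (List.mem_filter.1 hx').1).prod_sq hS]
  have hlen : (d ++ d').length ≤ 7 ∧ 1 ≤ (d ++ d').length := by
    have := hp.length_eq; have := hp'.length_eq; have := hcc.length_eq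
    simp only [List.length_append] at *
    omega
  rcases Nat.lt_or_ge (d ++ d').length 3 with h3 | h3
  · rcases (show (d ++ d').length = 1 ∨ (d ++ d').length = 2 by omega) with e | e
    · obtain ⟨x, hx'⟩ := List.length_eq_one_iff.1 e
      rw [hx', List.prod_singleton] at hprod
      exact CfsgLib.ThreeTrans.ne_one hS (hu.mem x (by simp [hx'])) hprod
    · exact noRel_two hS _ hu e hprod
  · exact hrel _ h3 hlen.1 _ hu rfl hprod

/-- Lists with the same images under a map injective on a set. -/
theorem map_inj_on {α β : Type*} {f : α → β} {s : Set α} (hf : Set.InjOn f s) :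
    ∀ {l l' : List α}, (∀ x ∈ l, x ∈ s) → (∀ x ∈ l', x ∈ s) → l.map f = l'.map f → l = l'
  | [], [], _, _, _ => rfl
  | [], _ :: _, _, _, h => by simp at h
  | _ :: _, [], _, _, h => by simp at h
  | a :: l, b :: l', ha, hb, h => by
    simp only [List.map_cons, List.cons.injEq] at h
    rw [hf (ha a List.mem_cons_self) (hb b List.mem_cons_self) h.1,
      map_inj_on hf (fun x hx => ha x (List.mem_cons_of_mem _ hx)) (fun x hx => hb x (List.mem_cons_of_mem _ hx)) h.2]

namespace Sec

variable {G : Type u} [Group G] [Finite G] {D : Set G} {d : G} (S : Sec23 D d)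
include S

theorem noRel (hprim : IsPrimitiveUnderConj D) (h : IsOfTypeM24 G D) {k : ℕ} (h3 : 3 ≤ k) (h7 : k ≤ 7) :
    NoRel D k := by
  rcases Nat.lt_or_ge k 4 with h4 | h4
  · obtain rfl : k = 2 + 1 := by omega
    refine noRel_succ ⟨S.setting.grp, fun a ha b hb => class_trans S.setting.cls ha hb⟩ S.mem S.non ?_
    intro l hl hlen hp
    exact noRel_two (secGrp S.setting.grp).1 l hl hlen hp
  · exact m24_noRel S.setting.grp hprim h h4 h7

theorem pick_exists (q : SecG D d) : ∃ x : G, q ∈ secSet D d → ∃ hx : x ∈ nb D d, im hx = q := by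
  by_cases h : q ∈ secSet D d
  · obtain ⟨⟨x, hx⟩, hm, rfl⟩ := h
    exact ⟨x, fun _ => ⟨hm, rfl⟩⟩
  · exact ⟨1, fun h' => absurd h' h⟩

/-- A chosen member over a member of the section. -/
noncomputable def pick (q : SecG D d) : G := Classical.choose (pick_exists S q)

theorem pick_mem {q : SecG D d} (h : q ∈ secSet D d) : pick S q ∈ nb D d :=
  (Classical.choose_spec (pick_exists S q) h).1

theorem pick_im {q : SecG D d} (h : q ∈ secSet D d) : im (pick_mem S h) = q :=
  (Classical.choose_spec (pick_exists S q) h).2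

theorem pick_com {l : List (SecG D d)} (hl : ComList (secSet D d) l) : ComList D (d :: l.map (pick S)) := by
  refine ⟨List.nodup_cons.2 ⟨fun h => ?_, ?_⟩, ?_, ?_⟩
  · obtain ⟨q, hq, e⟩ := List.mem_map.1 h
    exact (pick_mem S (hl.mem q hq)).2.1 e
  · exact hl.nodup.map_on fun p hp q hq e => by
      rw [← pick_im S (hl.mem p hp), ← pick_im S (hl.mem q hq)]
      exact congrArg QuotientGroup.mk (Subtype.ext e)
  · intro x hx
    rcases List.mem_cons.1 hx with rfl | h
    · exact S.mem
    · obtain ⟨q, hq, rfl⟩ := List.mem_map.1 h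
      exact (pick_mem S (hl.mem q hq)).1
  · intro x hx y hy
    rcases List.mem_cons.1 hx with rfl | h <;> rcases List.mem_cons.1 hy with rfl | h'
    · exact Commute.refl _
    · obtain ⟨q, hq, rfl⟩ := List.mem_map.1 h'
      exact (pick_mem S (hl.mem q hq)).2.2
    · obtain ⟨q, hq, rfl⟩ := List.mem_map.1 h
      exact (pick_mem S (hl.mem q hq)).2.2.symm
    · obtain ⟨q, hq, rfl⟩ := List.mem_map.1 h
      obtain ⟨p, hp, rfl⟩ := List.mem_map.1 h'
      rw [← comm_iff S (pick_mem S (hl.mem q hq)) (pick_mem S (hl.mem p hp)), pick_im S (hl.mem q hq),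
        pick_im S (hl.mem p hp)]
      exact hl.comm q hq p hp

theorem pick_prod : ∀ {l : List (SecG D d)}, (∀ q ∈ l, q ∈ secSet D d) →
    ∃ h : (l.map (pick S)).prod ∈ Subgroup.closure (nb D d),
      (QuotientGroup.mk ⟨(l.map (pick S)).prod, h⟩ : SecG D d) = l.prod
  | [], _ => ⟨one_mem _, rfl⟩
  | q :: l, hl => by
    obtain ⟨h, e⟩ := pick_prod (l := l) fun x hx => hl x (List.mem_cons_of_mem _ hx)
    refine ⟨?_, ?_⟩
    · rw [List.map_cons, List.prod_cons]
      exact mul_mem (Subgroup.subset_closure (pick_mem S (hl q List.mem_cons_self))) h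
    · conv_rhs => rw [List.prod_cons, ← e, ← pick_im S (hl q List.mem_cons_self)]
      rfl

/-- An involution commuting with the member. -/
theorem involution_at (hZ : Subgroup.center G = ⊥) {x : G} (hx : orderOf x = 2) (hxd : Commute x d) :
    ∃ l, ComList D l ∧ 1 ≤ l.length ∧ l.length ≤ 4 ∧ l.prod = x := by
  have hS := set3 S
  have hne : x ≠ 1 := fun e => by simp [e] at hx
  have hxx : x * x = 1 := by rw [← pow_two, ← hx, pow_orderOf_eq_one]
  have hdd := CfsgLib.ThreeTrans.mul_self hS S.mem
  obtain ⟨z, hz, hzz, hzx⟩ : ∃ z, z ∈ Subgroup.closure (nb D d) ∧ z * z = 1 ∧ (x = z ∨ x = d * z) := by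
    rcases mem_or_mem S hZ hxd with h | h
    · exact ⟨x, h, hxx, Or.inl rfl⟩
    · refine ⟨d * x, h, ?_, Or.inr (CfsgLib.ThreeTrans.mul_self_assoc hS S.mem x).symm⟩
      rw [show d * x * (d * x) = d * (x * d) * x by group, hxd.eq, ← mul_assoc, hdd, one_mul, hxx]
  have hcentral : ∀ (y : G) (hy : y ∈ Subgroup.closure (nb D d)), (QuotientGroup.mk ⟨y, hy⟩ : SecG D d) = 1 →
      y = 1 ∨ y = d := fun y hy h => fix_all S hZ (closure_comm S hy).symm fun f hf => (congrArg Subtype.val
        (Subgroup.mem_center_iff.1 ((QuotientGroup.eq_one_iff _).1 h) ⟨f, Subgroup.subset_closure hf⟩)).symm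
  set q : SecG D d := QuotientGroup.mk ⟨z, hz⟩ with hq
  by_cases hq1 : q = 1
  · refine ⟨[d], ⟨by simp, by simp [S.mem], by simp⟩, le_rfl, by simp, ?_⟩
    rw [List.prod_singleton]
    rcases hcentral z hz hq1 with rfl | rfl <;> rcases hzx with rfl | rfl
    · exact absurd rfl hne
    · rw [mul_one]
    · rfl
    · exact absurd hdd hne
  have hq2 : orderOf q = 2 := orderOf_eq_prime (by
    rw [hq, ← QuotientGroup.mk_pow, show (⟨z, hz⟩ : ↥(Subgroup.closure (nb D d))) ^ 2 = 1 from
      Subtype.ext (by simpa [pow_two] using hzz), QuotientGroup.mk_one]) hq1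
  obtain ⟨a, S'⟩ := exists_sec22 S.grp S.prim S.type
  obtain ⟨l, hl, h1, h3, hp⟩ := CfsgLib.LocalEvenB.M23.involution_factor23 S' S.type.1 hq2
  obtain ⟨hy, ey⟩ := pick_prod S hl.mem
  set y := (l.map (pick S)).prod with hydef
  have hcl := pick_com S hl
  have hyy : y * y = 1 := hcl.tail.prod_sq hS
  have hyd : Commute d y := closure_comm S hy
  have hyz : (QuotientGroup.mk ⟨y * z, mul_mem hy hz⟩ : SecG D d) = 1 := by
    rw [show (⟨y * z, mul_mem hy hz⟩ : ↥(Subgroup.closure (nb D d))) = ⟨y, hy⟩ * ⟨z, hz⟩ from rfl,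
      QuotientGroup.mk_mul, ey, hp, hq, ← QuotientGroup.mk_mul,
      show (⟨z, hz⟩ * ⟨z, hz⟩ : ↥(Subgroup.closure (nb D d))) = 1 from Subtype.ext hzz, QuotientGroup.mk_one]
  have hxy : x = y ∨ x = d * y := by
    have hzy : z = y ∨ z = d * y := by
      rw [show z = y * (y * z) by rw [← mul_assoc, hyy, one_mul]]
      rcases hcentral _ _ hyz with h | h <;> rw [h]
      · exact Or.inl (mul_one y)
      · exact Or.inr hyd.eq.symm
    rcases hzy with rfl | rfl <;> rcases hzx with rfl | rfl
    · exact Or.inl rfl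
    · exact Or.inr rfl
    · exact Or.inr rfl
    · exact Or.inl (CfsgLib.ThreeTrans.mul_self_assoc hS S.mem y)
  rcases hxy with h | h
  · exact ⟨l.map (pick S), hcl.tail, by simpa using h1, by simp; omega, by rw [h]⟩
  · exact ⟨d :: l.map (pick S), hcl, by simp, by simp; omega, by rw [List.prod_cons, h]⟩

/-- Every involution is a product of one to four commuting members. -/
theorem involution_factor (hZ : Subgroup.center G = ⊥) {x : G} (hx : orderOf x = 2) :
    ∃ l, ComList D l ∧ 1 ≤ l.length ∧ l.length ≤ 4 ∧ l.prod = x := by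
  obtain ⟨y, hy, hxy⟩ := exists_fixed S (x := x) (by rw [← pow_two, ← hx, pow_orderOf_eq_one])
  obtain ⟨g, hg⟩ := class_trans S.setting.cls hy S.mem
  obtain ⟨l, hl, h1, h4, hp⟩ := involution_at S hZ (x := MulAut.conj g x)
    (by rw [MulEquiv.orderOf_eq]; exact hx) (hg ▸ commute_conj_iff.2 hxy)
  refine ⟨l.map (MulAut.conj g⁻¹), hl.conj S.setting.grp.2.1 g⁻¹, by simpa using h1, by simpa using h4, ?_⟩
  rw [← map_list_prod, hp, MulAut.conj_apply, MulAut.conj_apply]
  group

/-- There are four commuting members. -/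
theorem exists_four : ∃ l, ComList D l ∧ l.length = 4 := by
  obtain ⟨a, S'⟩ := exists_sec22 S.grp S.prim S.type
  obtain ⟨y, z, h⟩ := CfsgLib.LocalEvenB.M23.exists_triple S'
  exact ⟨d :: [a, y, z].map (pick S), pick_com S h, rfl⟩

/-- Commuting lists of neighbours of one length at most three are conjugate under the centralizer of the member. -/
theorem nb_list_conj {t t' : List G} (ht : ComList D t) (ht' : ComList D t') (hm : ∀ x ∈ t, x ∈ nb D d)
    (hm' : ∀ x ∈ t', x ∈ nb D d) (h3 : t.length ≤ 3) (he : t'.length = t.length) :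
    ∃ h : G, Commute h d ∧ t.map (MulAut.conj h) = t' := by
  classical
  by_cases h0 : t = []
  · subst h0
    exact ⟨1, Commute.one_left d, by rw [List.map_nil, List.length_eq_zero_iff.1 he]⟩
  obtain ⟨a, S'⟩ := exists_sec22 S.grp S.prim S.type
  let φ : G → SecG D d := fun x => if hx : x ∈ nb D d then im hx else 1
  have hφ : ∀ {x} (hx : x ∈ nb D d), φ x = im hx := fun hx => dif_pos hx
  have hinj : Set.InjOn φ (nb D d) := fun x hx y hy e => inj S hx hy (by rw [← hφ hx, ← hφ hy, e])
  have hcl : ∀ {u : List G}, ComList D u → (∀ x ∈ u, x ∈ nb D d) → ComList (secSet D d) (u.map φ) := by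
    intro u hu hum
    refine ⟨hu.nodup.map_on fun x hx y hy e => hinj (hum x hx) (hum y hy) e, ?_, ?_⟩
    · intro p hp
      obtain ⟨x, hx, rfl⟩ := List.mem_map.1 hp
      exact hφ (hum x hx) ▸ im_mem_set (hum x hx)
    · intro p hp q hq
      obtain ⟨x, hx, rfl⟩ := List.mem_map.1 hp
      obtain ⟨y, hy, rfl⟩ := List.mem_map.1 hq
      rw [hφ (hum x hx), hφ (hum y hy), comm_iff S]
      exact hu.comm x hx y hy
  have hpos : 1 ≤ (t.map φ).length := by
    rw [List.length_map]; exact List.length_pos_iff.2 h0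
  obtain ⟨q, hq⟩ := CfsgLib.LocalEvenB.M23.list_conj S' (hcl ht hm) (hcl ht' hm') hpos (by simpa using h3)
    (by simpa using he)
  obtain ⟨⟨h, hh⟩, rfl⟩ := QuotientGroup.mk_surjective q
  have hhd : Commute h d := (closure_comm S hh).symm
  refine ⟨h, hhd, map_inj_on hinj ?_ hm' ?_⟩
  · intro x hx
    obtain ⟨y, hy, rfl⟩ := List.mem_map.1 hx
    exact conj_nb S hhd (hm y hy)
  · rw [← hq, List.map_map, List.map_map]
    refine List.map_congr_left fun x hx => ?_
    simp only [Function.comp_apply, MulAut.conj_apply]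
    rw [hφ (conj_nb S hhd (hm x hx)), hφ (hm x hx)]
    rfl

/-- Commuting lists of one length at most four are conjugate. -/
theorem list_conj {l l' : List G} (hl : ComList D l) (hl' : ComList D l') (h1 : 1 ≤ l.length) (h4 : l.length ≤ 4)
    (he : l'.length = l.length) : ∃ g : G, l.map (MulAut.conj g) = l' := by
  have hD := S.setting.grp.2.1
  match l, hl, l', hl', h1, h4, he with
  | x :: t, hl, x' :: t', hl', _, h4, he =>
    obtain ⟨g, hg⟩ := class_trans S.setting.cls (hl.mem x List.mem_cons_self) S.mem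
    obtain ⟨g', hg'⟩ := class_trans S.setting.cls (hl'.mem x' List.mem_cons_self) S.mem
    have hmem : ∀ {y : G} {u : List G} {k : G}, ComList D (y :: u) → k * y * k⁻¹ = d →
        ComList D (u.map (MulAut.conj k)) ∧ ∀ z ∈ u.map (MulAut.conj k), z ∈ nb D d := by
      intro y u k hu hk
      refine ⟨hu.tail.conj hD k, fun z hz => ?_⟩
      obtain ⟨w, hw, rfl⟩ := List.mem_map.1 hz
      exact hk ▸ conj_mem_nb hD k (⟨hu.mem w (List.mem_cons_of_mem _ hw),
        fun e => (List.nodup_cons.1 hu.nodup).1 (e ▸ hw),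
        hu.comm y List.mem_cons_self w (List.mem_cons_of_mem _ hw)⟩ : w ∈ nb D y)
    obtain ⟨h, hh, hmap⟩ := nb_list_conj S (hmem hl hg).1 (hmem hl' hg').1 (hmem hl hg).2 (hmem hl' hg').2
      (by simp only [List.length_cons] at h4; simp; omega)
      (by simp only [List.length_cons] at he; simp; omega)
    refine ⟨g'⁻¹ * h * g, ?_⟩
    rw [List.map_cons, MulAut.conj_apply, List.cons.injEq]
    refine ⟨?_, ?_⟩
    · rw [show g'⁻¹ * h * g * x * (g'⁻¹ * h * g)⁻¹ = g'⁻¹ * (h * (g * x * g⁻¹) * h⁻¹) * g' by group, hg, hh.eq,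
        mul_inv_cancel_right, ← hg']
      group
    · have e := congrArg (List.map (MulAut.conj g'⁻¹)) hmap
      simp only [List.map_map] at e
      rw [show t'.map (MulAut.conj g'⁻¹ ∘ MulAut.conj g') = t' by
        conv_rhs => rw [← List.map_id t']
        exact List.map_congr_left fun w _ => by simp only [Function.comp_apply, MulAut.conj_apply, id]; group] at e
      conv_rhs => rw [← e]
      exact List.map_congr_left fun w _ => by simp only [Function.comp_apply, MulAut.conj_apply]; group

end Sec

end CfsgLib.Recog.FiM24Inv
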