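import Cfsg.Agent.Lib.Recog.FiM24Inv.Member
import Cfsg.Agent.Lib.Recog.SporBound.Fi22Inv.Main

set_option autoImplicit false
set_option maxRecDepth 20000

/-!
In a group of type M(24) an involution commutes with some member: if it interchanges two commuting members it acts
on their joint section, a group of type M(22), where every involutory automorphism fixes a member
(owner: helper12).
-/

namespace CfsgLib.Recog.FiM24Inv

open Cfsg CfsgLib.ThreeTrans CfsgLib.Recog.FiM22.Factor CfsgLib.Recog.FiM22Two CfsgLib.Recog.FiM24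
open CfsgLib.Recog.SporBound

universe u

namespace Sec

variable {G : Type u} [Group G] [Finite G] {D : Set G} {d : G} (S : Sec23 D d)
include S

/-- The neighbours of the member that give the neighbours of one member of the section. -/
theorem swap_fixed {e : G} (he : e ∈ nb D d) (S' : Sec22 (secSet D d) (im he)) {x : G}
    (h1 : x * d * x⁻¹ = e) (h2 : x * e * x⁻¹ = d) (hxx : x * x = 1) : ∃ y ∈ D, Commute x y := by
  have hD := S.setting.grp
  have hS := set3 S
  set W : Set G := nb D d ∩ nb D e with hW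
  set K := Subgroup.closure W with hK
  have hKH : K ≤ Subgroup.closure (nb D d) := Subgroup.closure_mono Set.inter_subset_left
  have hKc : ∀ {k : G}, k ∈ K → Commute k d := fun hk => (closure_comm S (hKH hk)).symm
  let m₁ : ↥K →* SecG D d := (QuotientGroup.mk' _).comp (Subgroup.inclusion hKH)
  have hm₁ : ∀ k, m₁ k ∈ Subgroup.closure (nb (secSet D d) (im he)) := by
    have hle : (Subgroup.closure (((↑) : ↥K → G) ⁻¹' W)).map m₁ ≤ Subgroup.closure (nb (secSet D d) (im he)) := by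
      rw [MonoidHom.map_closure, Subgroup.closure_le]
      rintro _ ⟨⟨w, hwK⟩, hw, rfl⟩
      have hw' : w ∈ W := hw
      refine Subgroup.subset_closure ⟨im_mem_set hw'.1, fun h => hw'.2.2.1 (inj S hw'.1 he h), ?_⟩
      exact (comm_iff S he hw'.1).2 hw'.2.2.2
    intro k
    refine hle ⟨k, ?_, rfl⟩
    rw [Subgroup.closure_closure_coe_preimage]
    exact Subgroup.mem_top k
  let π : ↥K →* SecG (secSet D d) (im he) := (QuotientGroup.mk' _).comp (m₁.codRestrict _ hm₁)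
  have hπW : ∀ {w : G} (hw : w ∈ W), ∃ h : im hw.1 ∈ nb (secSet D d) (im he),
      π ⟨w, Subgroup.subset_closure hw⟩ = im h := fun {w} hw =>
    ⟨⟨im_mem_set hw.1, fun h => hw.2.2.1 (inj S hw.1 he h), (comm_iff S he hw.1).2 hw.2.2.2⟩, rfl⟩
  have hlift : ∀ p ∈ secSet (secSet D d) (im he),
      ∃ (w : G) (hw : w ∈ W), π ⟨w, Subgroup.subset_closure hw⟩ = p := by
    intro p hp
    obtain ⟨q, hq, rfl⟩ := exists_of_mem_sec (S'.sec_eq.symm ▸ hp : p ∈ secSet (secSet D d) (im he) \ {1})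
    obtain ⟨⟨⟨f, hf⟩, hfm, rfl⟩, hne, hc⟩ := hq.1
    have hf' : f ∈ nb D d := hfm
    have hw : f ∈ W := ⟨hf', hf'.1, fun h => hne (by subst h; rfl), (comm_iff S he hf').1 hc⟩
    exact ⟨f, hw, rfl⟩
  have hπ : Function.Surjective π := by
    rw [← MonoidHom.range_eq_top, eq_top_iff, ← S'.grp.2.2, Subgroup.closure_le]
    intro p hp
    obtain ⟨w, hw, rfl⟩ := hlift p hp
    exact ⟨_, rfl⟩
  have hWconj : ∀ {k : G}, k ∈ K → ∀ w ∈ W, k * w * k⁻¹ ∈ W := by
    intro k hk w hw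
    refine ⟨conj_nb S (hKc hk) hw.1, ?_⟩
    have hke : k * e * k⁻¹ = e := by
      rw [← (RankThree.commute_closure (fun _ hz => hz.2.2.2) hk).eq, mul_inv_cancel_right]
    exact hke ▸ conj_mem_nb hD.2.1 k hw.2
  have hinjW : ∀ {w w' : G} (hw : w ∈ W) (hw' : w' ∈ W),
      π ⟨w, Subgroup.subset_closure hw⟩ = π ⟨w', Subgroup.subset_closure hw'⟩ → w = w' := by
    intro w w' hw hw' h
    obtain ⟨a1, b1⟩ := hπW hw
    obtain ⟨a2, b2⟩ := hπW hw'
    exact inj S hw.1 hw'.1 (S'.inj a1 a2 (b1.symm.trans (h.trans b2)))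
  have hker : π.ker = Subgroup.center ↥K := by
    ext k
    constructor
    · intro hk
      have hfix : ∀ w ∈ W, Commute (k : G) w := by
        intro w hw
        refine mul_inv_eq_iff_eq_mul.1 (hinjW (hWconj k.2 w hw) hw ?_)
        have : (⟨(k : G) * w * (k : G)⁻¹, Subgroup.subset_closure (hWconj k.2 w hw)⟩ : ↥K) =
            k * ⟨w, Subgroup.subset_closure hw⟩ * k⁻¹ := rfl
        rw [this, map_mul, map_mul, map_inv, MonoidHom.mem_ker.1 hk, one_mul, inv_one, mul_one]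
      refine Subgroup.mem_center_iff.2 fun z => Subtype.ext ?_
      exact (RankThree.commute_closure hfix z.2).eq.symm
    · intro hk
      rw [MonoidHom.mem_ker, ← Subgroup.mem_bot, ← S'.type.1, Subgroup.mem_center_iff]
      intro q
      obtain ⟨z, rfl⟩ := hπ q
      rw [← map_mul, ← map_mul, Subgroup.mem_center_iff.1 hk z]
  have hxW : ∀ w ∈ W, x * w * x⁻¹ ∈ W := fun w hw =>
    ⟨h2 ▸ conj_mem_nb hD.2.1 x hw.2, h1 ▸ conj_mem_nb hD.2.1 x hw.1⟩
  have hxinv : x⁻¹ = x := inv_eq_of_mul_eq_one_right hxx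
  have hx2 : ∀ z : G, x * (x * z * x⁻¹) * x⁻¹ = z := fun z => by
    rw [hxinv, ← mul_assoc, ← mul_assoc, hxx, one_mul, mul_assoc, hxx, mul_one]
  have hxK : K.map (MulAut.conj x).toMonoidHom = K := by
    rw [hK, MonoidHom.map_closure]
    congr 1
    ext y
    exact ⟨fun ⟨z, hz, hzy⟩ => hzy ▸ hxW z hz, fun hy => ⟨x * y * x⁻¹, hxW y hy, hx2 y⟩⟩
  let ι : ↥K ≃* ↥K :=
    (K.equivMapOfInjective _ (MulAut.conj x).injective).trans (MulEquiv.subgroupCongr hxK)
  have hι : ∀ k : ↥K, (ι k : G) = x * k * x⁻¹ := fun _ => rfl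
  let e₀ := QuotientGroup.quotientKerEquivOfSurjective π hπ
  let ιq : ↥K ⧸ π.ker ≃* ↥K ⧸ π.ker := QuotientGroup.congr _ _ ι (by
    rw [hker]
    ext z
    constructor
    · rintro ⟨y, hy, rfl⟩
      refine Subgroup.mem_center_iff.2 fun w => ι.symm.injective ?_
      rw [map_mul, map_mul]
      simpa using Subgroup.mem_center_iff.1 hy (ι.symm w)
    · intro hz
      refine ⟨ι.symm z, Subgroup.mem_center_iff.2 fun w => ι.injective ?_, by simp⟩
      rw [map_mul, map_mul]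
      simpa using Subgroup.mem_center_iff.1 hz (ι w))
  let Φ : SecG (secSet D d) (im he) ≃* SecG (secSet D d) (im he) := (e₀.symm.trans ιq).trans e₀
  have hΦ : ∀ k : ↥K, Φ (π k) = π (ι k) := fun k => by
    show e₀ (ιq (e₀.symm (π k))) = π (ι k)
    rw [show e₀.symm (π k) = QuotientGroup.mk k from e₀.symm_apply_eq.2 rfl]
    rfl
  obtain ⟨φ, hφ⟩ := FiM22.identify_of_type S'.grp S'.prim S'.type
  obtain ⟨r, hr⟩ := Fi22Inv.exists_fixed_row ((φ.trans Φ).trans φ.symm) fun z => by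
    simp only [MulEquiv.trans_apply, MulEquiv.apply_symm_apply]
    obtain ⟨k, hk⟩ := hπ (φ z)
    rw [← hk, hΦ, hΦ, show ι (ι k) = k from Subtype.ext (by rw [hι, hι]; exact hx2 k), hk,
      MulEquiv.symm_apply_apply]
  have hp : φ (Fi22Aut.T r) ∈ secSet (secSet D d) (im he) := hφ ▸ ⟨_, Fi22Inv.T_mem r, rfl⟩
  obtain ⟨w, hw, hwp⟩ := hlift _ hp
  refine ⟨w, hw.1.1, mul_inv_eq_iff_eq_mul.1 (hinjW (hxW w hw) hw ?_)⟩
  simp only [MulEquiv.trans_apply, MulEquiv.symm_apply_eq] at hr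
  rw [← hwp, hΦ] at hr
  rw [← hr]
  exact congrArg π (Subtype.ext (hι ⟨w, Subgroup.subset_closure hw⟩).symm)

/-- Every involution commutes with some member. -/
theorem exists_fixed {x : G} (hxx : x * x = 1) : ∃ y ∈ D, Commute x y := by
  have hD := S.setting.grp
  have hxinv : x⁻¹ = x := inv_eq_of_mul_eq_one_right hxx
  have hx2 : ∀ z : G, x * (x * z * x⁻¹) * x⁻¹ = z := fun z => by
    rw [hxinv, ← mul_assoc, ← mul_assoc, hxx, one_mul, mul_assoc, hxx, mul_one]
  set b := x * d * x⁻¹ with hb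
  have hbD : b ∈ D := hD.2.1 x d S.mem
  by_cases hbd : b = d
  · exact ⟨d, S.mem, mul_inv_eq_iff_eq_mul.1 hbd⟩
  have hxb : x * b * x⁻¹ = d := hx2 d
  by_cases hc : Commute d b
  swap
  · refine ⟨d * b * d, ?_, ?_⟩
    · simpa [CfsgLib.ThreeTrans.inv_eq (set3 S) S.mem] using hD.2.1 d b hbD
    · refine mul_inv_eq_iff_eq_mul.1 ?_
      rw [show x * (d * b * d) * x⁻¹ = x * d * x⁻¹ * (x * b * x⁻¹) * (x * d * x⁻¹) by group, hxb, ← hb]
      exact (braid (set3 S) S.mem hbD hc).symm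
  obtain ⟨a, S'⟩ := exists_sec22 S.grp S.prim S.type
  obtain ⟨⟨e, heH⟩, hem, rfl⟩ := id S'.mem
  have he : e ∈ nb D d := hem
  have hbn : b ∈ nb D d := ⟨hbD, hbd, hc⟩
  obtain ⟨k, hk, hkb⟩ := S.setting.commute_transitive S.mem hbD hbd hc he.1 he.2.1 he.2.2
  have hkd : k * d * k⁻¹ = d := by rw [hk.eq, mul_inv_cancel_right]
  obtain ⟨y, hy, hxy⟩ := swap_fixed S he S' (x := k * x * k⁻¹)
    (by rw [show k * x * k⁻¹ * d * (k * x * k⁻¹)⁻¹ = k * (x * (k⁻¹ * d * k) * x⁻¹) * k⁻¹ by group,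
      show k⁻¹ * d * k = d by rw [mul_assoc, ← hk.eq, inv_mul_cancel_left], ← hb, hkb])
    (by rw [show k * x * k⁻¹ * e * (k * x * k⁻¹)⁻¹ = k * (x * (k⁻¹ * e * k) * x⁻¹) * k⁻¹ by group,
      (show k⁻¹ * e * k = b by rw [← hkb]; group), hxb, hkd])
    (by rw [show k * x * k⁻¹ * (k * x * k⁻¹) = k * (x * x) * k⁻¹ by group, hxx, mul_one, mul_inv_cancel])
  refine ⟨k⁻¹ * y * k, by simpa using hD.2.1 k⁻¹ y hy, ?_⟩
  rw [← commute_conj_iff (g := k), conj_cancel]
  exact hxy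

end Sec

end CfsgLib.Recog.FiM24Inv
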