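import Cfsg.Agent.Lib.Recog.FiM24.Sec23
import Cfsg.Agent.Lib.Recog.FiM22Two.UniqueM23
import Cfsg.Agent.Lib.Recog.FiM23.Identify
import Cfsg.Agent.Lib.Recog.FiThree.Aut.Main

set_option autoImplicit false
set_option maxRecDepth 20000

/-!
A member of a group of type M(24): an element fixing the member and its neighbours is trivial or the member, and
the centralizer of the member is generated by the member and its neighbours, as Fi23 has no outer automorphism
(owner: helper12).
-/

namespace CfsgLib.Recog.FiM24Inv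

open Cfsg CfsgLib.ThreeTrans CfsgLib.Recog.FiM22.Factor CfsgLib.Recog.FiM22Two CfsgLib.Recog.FiM24

universe u

/-- Two members noncommuting with a member and having there the same common neighbours are paired by it. -/
def Fibre {G : Type u} [Group G] (D : Set G) : Prop :=
  ∀ p ∈ D, ∀ b ∈ D, ∀ b' ∈ D, ¬ Commute p b → ¬ Commute p b' →
    (∀ w ∈ nb D p, Commute b w → Commute b' w) → b' = b ∨ b' = p * b * p

section Up

variable {G : Type u} [Group G] [Finite G] {D : Set G} {d : G}

theorem fibre_up (S : RankThree.Setting D) (hd : d ∈ D) (hnon : ∀ e ∈ nb D d, Noncentral D d e)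
    (hF : Fibre (secSet D d)) : Fibre D := by
  intro p hp b hb b' hb' hpb hpb' hsame
  have hD := S.grp
  have hinj : ∀ {e f : G} (he : e ∈ nb D d) (hf : f ∈ nb D d), im he = im hf → e = f :=
    fun he hf h => im_inj hD.1 (hnon _ he) hf h
  have hcomm : ∀ {e f : G} (he : e ∈ nb D d) (hf : f ∈ nb D d), Commute (im he) (im hf) ↔ Commute e f :=
    fun he hf => im_commute hD.1 (hnon _ he) hf
  obtain ⟨r, hr, hrb⟩ := exists_common_nb S hp hb hpb
  have hrb' : Commute r b' := (hsame r hr hrb.symm).symm
  obtain ⟨k, hk⟩ := class_trans S.cls hr.1 hd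
  have hin : ∀ {z : G}, z ∈ D → Commute r z → z ≠ r → k * z * k⁻¹ ∈ nb D d := fun {z} hz hc hne =>
    ⟨hD.2.1 k z hz, fun h => hne (mul_left_cancel (mul_right_cancel (h.trans hk.symm))),
      by rw [← hk]; exact commute_conj_iff.2 hc⟩
  have hP := hin hp hr.2.2.symm hr.2.1.symm
  have hQ := hin hb hrb fun h => hpb (h ▸ hr.2.2)
  have hZ := hin hb' hrb' fun h => hpb' (h ▸ hr.2.2)
  have key := hF (im hP) (im_mem_set hP) (im hQ) (im_mem_set hQ) (im hZ) (im_mem_set hZ)
    (fun h => hpb (commute_conj_iff.1 ((hcomm hP hQ).1 h)))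
    (fun h => hpb' (commute_conj_iff.1 ((hcomm hP hZ).1 h))) ?_
  · rcases key with h | h
    · exact Or.inl (mul_left_cancel (mul_right_cancel (hinj hZ hQ h)))
    · refine Or.inr ?_
      have hpd : Commute (k * p * k⁻¹) d := hP.2.2.symm
      have hsd : k * p * k⁻¹ * d * (k * p * k⁻¹)⁻¹ = d := by rw [hpd.eq, mul_inv_cancel_right]
      have hin' : k * p * k⁻¹ * (k * b * k⁻¹) * (k * p * k⁻¹)⁻¹ ∈ nb D d := hsd ▸ conj_mem_nb hD.2.1 _ hQ
      have himp : (im hP : SecG D d) * im hQ * im hP = im hin' := by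
        conv_lhs => arg 2; rw [show (im hP : SecG D d) = (im hP)⁻¹ from
          (inv_eq_of_mul_eq_one_right (im_mul_self hD.1 hP)).symm]
        rfl
      rw [himp] at h
      have e := hinj hZ hin' h
      refine mul_left_cancel (mul_right_cancel (e.trans ?_) : k * b' = k * (p * b * p))
      rw [show k * p * k⁻¹ * (k * b * k⁻¹) * (k * p * k⁻¹)⁻¹ = k * (p * b * p⁻¹) * k⁻¹ by group,
        CfsgLib.ThreeTrans.inv_eq hD.1 hp]
  · rintro w ⟨⟨⟨w', hw'⟩, hm, rfl⟩, hne, hc⟩ hqw
    have hw : w' ∈ nb D d := hm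
    change im hw ≠ im hP at hne
    change Commute (im hP) (im hw) at hc
    change Commute (im hQ) (im hw) at hqw
    show Commute (im hZ) (im hw)
    rw [hcomm hZ hw]
    rw [hcomm hP hw] at hc
    rw [hcomm hQ hw] at hqw
    set t := k⁻¹ * w' * k with ht'
    have hkt : k * t * k⁻¹ = w' := conj_cancel k w'
    have ht : t ∈ nb D p := ⟨by simpa using hD.2.1 k⁻¹ w' hw.1, fun h => hne (by congr 1; simp [← hkt, h]), by
      rw [← commute_conj_iff (g := k), hkt]; exact hc⟩
    rw [← hkt, commute_conj_iff]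
    exact hsame t ht (by rw [← commute_conj_iff (g := k), hkt]; exact hqw)

end Up

namespace Sec

variable {G : Type u} [Group G] [Finite G] {D : Set G} {d : G} (S : Sec23 D d)
include S

theorem set3 : IsThreeTranspositionSet D := S.setting.grp.1

theorem inj {e f : G} (he : e ∈ nb D d) (hf : f ∈ nb D d) (h : im he = im hf) : e = f :=
  im_inj (set3 S) (S.non e he) hf h

theorem comm_iff {e f : G} (he : e ∈ nb D d) (hf : f ∈ nb D d) : Commute (im he) (im hf) ↔ Commute e f :=
  im_commute (set3 S) (S.non e he) hf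

theorem closure_comm {h : G} (hh : h ∈ Subgroup.closure (nb D d)) : Commute d h :=
  RankThree.commute_closure (fun _ hz => hz.2.2) hh

theorem conj_nb {k : G} (hk : Commute k d) {e : G} (he : e ∈ nb D d) : k * e * k⁻¹ ∈ nb D d := by
  have hkd : k * d * k⁻¹ = d := by rw [hk.eq, mul_inv_cancel_right]
  exact hkd ▸ conj_mem_nb S.setting.grp.2.1 k he

theorem conj_closure {k : G} (hk : Commute k d) :
    (Subgroup.closure (nb D d)).map (MulAut.conj k).toMonoidHom = Subgroup.closure (nb D d) := by
  rw [MonoidHom.map_closure]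
  congr 1
  ext y
  constructor
  · rintro ⟨x, hx, rfl⟩; exact conj_nb S hk hx
  · intro hy
    exact ⟨k⁻¹ * y * k, by simpa using conj_nb S hk.inv_left hy, conj_cancel k y⟩

theorem center_G (hZ : Subgroup.center G = ⊥) {x : G} (h : ∀ y ∈ D, Commute x y) : x = 1 := by
  have := central_of_commute_class S.setting.cls (x := x) fun y hy => (h y hy).symm
  rwa [hZ, Subgroup.mem_bot] at this

theorem fibre : Fibre D := by
  obtain ⟨a, S'⟩ := exists_sec22 S.grp S.prim S.type
  exact fibre_up S.setting S.mem S.non (fibre_up S'.setting S'.mem S'.non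
    fun p hp b hb b' hb' hpb hpb' h => fibre22 S'.grp S'.prim S'.type hp hb hpb hb' hpb' h)

/-- An element fixing the member and all its neighbours. -/
theorem fix_all (hZ : Subgroup.center G = ⊥) {g : G} (hgd : Commute g d)
    (hfix : ∀ e ∈ nb D d, Commute g e) : g = 1 ∨ g = d := by
  have hD := S.setting.grp
  have hnon : ∀ y ∈ D, ¬ Commute d y → g * y * g⁻¹ = y ∨ g * y * g⁻¹ = d * y * d := by
    intro y hy hdy
    refine fibre S d S.mem y hy _ (hD.2.1 g y hy) hdy (fun h => hdy ?_) fun t ht hyt => ?_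
    · refine (commute_conj_iff (g := g)).1 ?_
      rwa [show g * d * g⁻¹ = d by rw [hgd.eq, mul_inv_cancel_right]]
    · rw [show t = g * t * g⁻¹ by rw [(hfix t ht).eq, mul_inv_cancel_right], commute_conj_iff]
      exact hyt
  by_cases hex : ∃ y ∈ D, ¬ Commute d y ∧ g * y * g⁻¹ = y
  · obtain ⟨y, hy, hdy, hgy⟩ := hex
    refine Or.inl (center_G S hZ fun z hz => ?_)
    have htop := S.setting.max S.mem hy hdy
    refine (RankThree.commute_closure (a := g) ?_ (htop ▸ Subgroup.mem_top z)).symm.symm
    rintro t (⟨htD, hdt⟩ | rfl)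
    · by_cases e : t = d
      · exact e ▸ hgd
      · exact hfix t ⟨htD, e, hdt⟩
    · exact mul_inv_eq_iff_eq_mul.1 hgy
  · push Not at hex
    refine Or.inr ?_
    have h1 : d * g = 1 := center_G S hZ fun z hz => by
      by_cases hdz : Commute d z
      · refine hdz.mul_left ?_
        by_cases e : z = d
        · exact e ▸ hgd
        · exact hfix z ⟨hz, e, hdz⟩
      · have e := (hnon z hz hdz).resolve_left (hex z hz hdz)
        refine mul_inv_eq_iff_eq_mul.1 ?_
        calc d * g * z * (d * g)⁻¹ = d * (g * z * g⁻¹) * d⁻¹ := by group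
          _ = d * (d * z * d) * d⁻¹ := by rw [e]
          _ = d * d * z := by group
          _ = z := by rw [CfsgLib.ThreeTrans.mul_self (set3 S) S.mem, one_mul]
    rw [eq_inv_of_mul_eq_one_right h1, CfsgLib.ThreeTrans.inv_eq (set3 S) S.mem]

/-- The induced automorphism of the section. -/
noncomputable def secAut {k : G} (hk : Commute k d) : MulAut (SecG D d) :=
  let ι : ↥(Subgroup.closure (nb D d)) ≃* ↥(Subgroup.closure (nb D d)) :=
    ((Subgroup.closure (nb D d)).equivMapOfInjective _ (MulAut.conj k).injective).trans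
      (MulEquiv.subgroupCongr (conj_closure S hk))
  QuotientGroup.congr _ _ ι (by
    ext x
    constructor
    · rintro ⟨y, hy, rfl⟩
      refine Subgroup.mem_center_iff.2 fun z => ι.symm.injective ?_
      rw [map_mul, map_mul]
      simpa using Subgroup.mem_center_iff.1 hy (ι.symm z)
    · intro hx
      refine ⟨ι.symm x, Subgroup.mem_center_iff.2 fun z => ι.injective ?_, by simp⟩
      rw [map_mul, map_mul]
      simpa using Subgroup.mem_center_iff.1 hx (ι z))

theorem secAut_im {k : G} (hk : Commute k d) {e : G} (he : e ∈ nb D d) :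
    secAut S hk (im he) = im (conj_nb S hk he) := rfl

/-- An element centralizing the member lies in the subgroup of the neighbours or its translate by the member. -/
theorem mem_or_mem (hZ : Subgroup.center G = ⊥) {x : G} (hx : Commute x d) :
    x ∈ Subgroup.closure (nb D d) ∨ d * x ∈ Subgroup.closure (nb D d) := by
  obtain ⟨φ, -⟩ := FiM23.identify_of_type S.grp S.prim S.type
  obtain ⟨g, hg⟩ := FiThree.Aut.inner ((φ.trans (secAut S hx)).trans φ.symm)
  obtain ⟨⟨l, hl⟩, hlq⟩ := QuotientGroup.mk_surjective (φ g)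
  have hconj : ∀ q, secAut S hx q = φ g * q * (φ g)⁻¹ := fun q => by
    have h := DFunLike.congr_fun hg (φ.symm q)
    simp only [MulAut.conj_apply] at h
    have h' := congrArg φ h
    simpa using h'.symm
  have hld : Commute l d := (closure_comm S hl).symm
  have hfix : ∀ e ∈ nb D d, Commute (l⁻¹ * x) e := by
    intro e he
    have h1 : secAut S hx (im he) = im (conj_nb S hld he) := by rw [hconj, ← hlq]; rfl
    rw [secAut_im S hx he] at h1
    have h2 := inj S _ _ h1
    refine mul_inv_eq_iff_eq_mul.1 ?_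
    calc l⁻¹ * x * e * (l⁻¹ * x)⁻¹ = l⁻¹ * (x * e * x⁻¹) * l := by group
      _ = e := by rw [h2]; group
  rcases fix_all S hZ (hld.inv_left.mul_left hx) hfix with e | e
  · exact Or.inl (by rw [inv_mul_eq_one.1 e] at hl; exact hl)
  · refine Or.inr ?_
    rw [show x = l * d by rw [← e, mul_inv_cancel_left], ← mul_assoc, ← hld.eq, mul_assoc,
      CfsgLib.ThreeTrans.mul_self (set3 S) S.mem, mul_one]
    exact hl

end Sec

end CfsgLib.Recog.FiM24Inv
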